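import Groth.Agent.Sga3C.GrpSep
import Groth.Prelude.Def_AlgGrp

/-!
# Separatedness of schemes with a transitive action of a universally open group scheme with
geometrically irreducible fibres
-/

set_option autoImplicit false

universe u

open CategoryTheory CategoryTheory.Limits MonoidalCategory CartesianMonoidalCategory MonObj GrpObj AlgebraicGeometry

namespace Groth.Agent.Sga3.H780.ActSep

variable {S : Scheme.{u}} {G X : Over S} [GrpObj G] (a : AlgGrp.Action G X)

/-- The unit acts trivially, on points. -/
theorem lift_one_act {T : Over S} (x : T ⟶ X) : lift (1 : T ⟶ G) x ≫ a.act = x := by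
  have h : lift (1 : T ⟶ G) x = lift (toUnit T) x ≫ (η[G] ▷ X) := by
    rw [lift_whiskerRight]
    rfl
  rw [h, Category.assoc, a.one_act, lift_leftUnitor_hom]

/-- Compatibility of the action with multiplication, on points. -/
theorem lift_mul_act {T : Over S} (g h : T ⟶ G) (x : T ⟶ X) :
    lift (g * h) x ≫ a.act = lift g (lift h x ≫ a.act) ≫ a.act := by
  have h1 : lift (g * h) x = lift (lift g h) x ≫ (μ[G] ▷ X) := by
    rw [lift_whiskerRight]
    rfl
  rw [h1, Category.assoc, a.mul_act, lift_lift_associator_hom_assoc, lift_whiskerLeft_assoc]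

/-- Acting by a point of `G` is injective on points of `X`. -/
theorem act_cancel {T : Over S} (g : T ⟶ G) (x x' : T ⟶ X)
    (h : lift g x ≫ a.act = lift g x' ≫ a.act) : x = x' := by
  have h1 : lift g⁻¹ (lift g x ≫ a.act) ≫ a.act = lift g⁻¹ (lift g x' ≫ a.act) ≫ a.act := by rw [h]
  rwa [← lift_mul_act, ← lift_mul_act, inv_mul_cancel, lift_one_act, lift_one_act] at h1

/-- If a universally open group scheme with geometrically irreducible fibres acts on `X` in such a
way that `(g, x) ↦ (g x, x)` is surjective, then `X` is separated over the base. -/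
theorem isSeparated [GeometricallyIrreducible G.hom] [UniversallyOpen G.hom]
    (hΦ : Surjective (lift a.act (snd G X)).left) : IsSeparated X.hom := by
  have himm : IsImmersion (pullback.diagonal X.hom) := inferInstance
  constructor
  suffices H : IsClosed (Set.range (pullback.diagonal X.hom)) by
    exact IsClosedImmersion.of_isPreimmersion _ H
  let T : Over S := X ⊗ X
  let d : X ⟶ T := lift (𝟙 X) (𝟙 X)
  have hd : d.left = pullback.diagonal X.hom := rfl
  let P : Over S := T ⊗ G
  let q : P ⟶ T := fst T G
  let y : P ⟶ G := snd T G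
  let α : P ⟶ X := lift y (q ≫ fst X X) ≫ a.act
  let β : P ⟶ X := lift y (q ≫ snd X X) ≫ a.act
  let φ : P ⟶ T := lift α β
  have hqL : q.left = pullback.fst T.hom G.hom := rfl
  have : UniversallyOpen q.left := by rw [hqL]; infer_instance
  have : GeometricallyIrreducible q.left := by rw [hqL]; infer_instance
  -- the two preimages of the diagonal agree
  have hpre : q.left ⁻¹' (Set.range d.left) = φ.left ⁻¹' (Set.range d.left) := by
    ext w
    constructor
    · intro hw
      obtain ⟨E, h, h', hh, e, rfl⟩ := Sga3C.GrpSep.exists_lift_of_mem_range q d w hw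
      have h1 : h ≫ φ = (h ≫ α) ≫ d := by
        have ha : h ≫ q ≫ fst X X = h' := by
          rw [← Category.assoc, hh, Category.assoc]; simp [d]
        have hb : h ≫ q ≫ snd X X = h' := by
          rw [← Category.assoc, hh, Category.assoc]; simp [d]
        have hab : h ≫ α = h ≫ β := by
          simp only [α, β, comp_lift_assoc, ha, hb]
        apply CartesianMonoidalCategory.hom_ext
        · simp [φ, d]
        · simp [φ, d, hab]
      refine ⟨(h ≫ α).left e, ?_⟩
      rw [← Scheme.Hom.comp_apply, ← Scheme.Hom.comp_apply, ← Over.comp_left, ← Over.comp_left, h1]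
    · intro hw
      obtain ⟨E, h, h', hh, e, rfl⟩ := Sga3C.GrpSep.exists_lift_of_mem_range φ d w hw
      have h1 : h ≫ q = (h ≫ q ≫ fst X X) ≫ d := by
        have ha : h ≫ α = h' := by
          have : h ≫ φ ≫ fst X X = h' := by rw [← Category.assoc, hh, Category.assoc]; simp [d]
          simpa [φ] using this
        have hb : h ≫ β = h' := by
          have : h ≫ φ ≫ snd X X = h' := by rw [← Category.assoc, hh, Category.assoc]; simp [d]
          simpa [φ] using this
        have hab : h ≫ q ≫ fst X X = h ≫ q ≫ snd X X := by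
          refine act_cancel a (h ≫ y) _ _ ?_
          rw [← comp_lift_assoc, ← comp_lift_assoc]
          exact ha.trans hb.symm
        apply CartesianMonoidalCategory.hom_ext
        · simp [d]
        · simp [d, hab]
      refine ⟨(h ≫ q ≫ fst X X).left e, ?_⟩
      rw [← Scheme.Hom.comp_apply, ← Scheme.Hom.comp_apply, ← Over.comp_left, ← Over.comp_left, h1]
  rw [← hd, ← closure_subset_iff_isClosed]
  intro t' ht
  let t : T.left := t'
  -- a separated open neighbourhood of the first projection
  let x0 : X.left := (fst X X).left t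
  obtain ⟨U, hxU, hU⟩ := Sga3C.GrpSep.exists_separated_nhd X.hom x0
  -- points of the fibre
  have hα : ∃ w : P.left, q.left w = t ∧ α.left w ∈ U := by
    let σ : T ⟶ P := lift (𝟙 T) 1
    have e1 : σ ≫ q = 𝟙 T := lift_fst _ _
    have e2 : σ ≫ α = fst X X := by
      have e3 : σ ≫ y = 1 := lift_snd _ _
      simp only [α]
      rw [comp_lift_assoc, e3, ← Category.assoc, e1, Category.id_comp, lift_one_act]
    refine ⟨σ.left t, ?_, ?_⟩
    · rw [← Scheme.Hom.comp_apply, ← Over.comp_left, e1]
      rfl
    · rw [← Scheme.Hom.comp_apply, ← Over.comp_left, e2]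
      exact hxU
  have hβ : ∃ w : P.left, q.left w = t ∧ β.left w ∈ U := by
    obtain ⟨v, hv⟩ := hΦ.surj t
    let σ : G ⊗ X ⟶ P := lift (lift a.act (snd G X)) (fst G X)
    have e1 : σ ≫ q = lift a.act (snd G X) := lift_fst _ _
    have e2 : σ ≫ β = lift a.act (snd G X) ≫ fst X X := by
      have e3 : σ ≫ y = fst G X := lift_snd _ _
      simp only [β]
      rw [comp_lift_assoc, e3, ← Category.assoc, e1, lift_snd, lift_fst, lift_fst_snd,
        Category.id_comp]
    refine ⟨σ.left v, ?_, ?_⟩
    · rw [← Scheme.Hom.comp_apply, ← Over.comp_left, e1]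
      exact hv
    · rw [← Scheme.Hom.comp_apply, ← Over.comp_left, e2, Over.comp_left, Scheme.Hom.comp_apply, hv]
      exact hxU
  obtain ⟨w, hwt, hwα, hwβ⟩ : ∃ w : P.left, q.left w = t ∧ α.left w ∈ U ∧ β.left w ∈ U := by
    have hirr := q.left.isIrreducible_preimage q.left.isOpenMap (isIrreducible_singleton (x := t))
    obtain ⟨a1, ha1, ha2⟩ := hα
    obtain ⟨b, hb1, hb2⟩ := hβ
    obtain ⟨w, hw1, hw2, hw3⟩ := hirr.isPreirreducible (α.left ⁻¹' U) (β.left ⁻¹' U)
      (U.isOpen.preimage α.left.continuous) (U.isOpen.preimage β.left.continuous)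
      ⟨a1, ha1, ha2⟩ ⟨b, hb1, hb2⟩
    exact ⟨w, hw1, hw2, hw3⟩
  have hw1 : w ∈ closure (q.left ⁻¹' (Set.range d.left)) := by
    rw [← q.left.isOpenMap.preimage_closure_eq_closure_preimage q.left.continuous]
    change q.left w ∈ closure (Set.range d.left)
    rw [hwt]
    exact ht
  have hw2 : φ.left w ∈ closure (Set.range d.left) := by
    rw [hpre] at hw1
    exact (φ.left.continuous.closure_preimage_subset _) hw1
  have hw3 : φ.left w ∈ Set.range d.left := by
    refine Sga3C.GrpSep.mem_range_diagonal_of_mem_closure X.hom U _ ?_ ?_ hw2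
    · have : (φ.left ≫ pullback.fst X.hom X.hom) w = α.left w := by
        rw [show φ.left ≫ pullback.fst X.hom X.hom = (φ ≫ fst X X).left from rfl, lift_fst]
      rw [← Scheme.Hom.comp_apply, this]
      exact hwα
    · have : (φ.left ≫ pullback.snd X.hom X.hom) w = β.left w := by
        rw [show φ.left ≫ pullback.snd X.hom X.hom = (φ ≫ snd X X).left from rfl, lift_snd]
      rw [← Scheme.Hom.comp_apply, this]
      exact hwβ
  have hw4 : w ∈ q.left ⁻¹' (Set.range d.left) := by rw [hpre]; exact hw3
  change t ∈ Set.range d.left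
  rw [← hwt]
  exact hw4

end Groth.Agent.Sga3.H780.ActSep
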