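import Groth.Agent.FlatA.SeparablePoint
import Mathlib.AlgebraicGeometry.Morphisms.Smooth
import Mathlib.FieldTheory.Galois.Basic
import Mathlib.FieldTheory.IsSepClosed
import Mathlib.FieldTheory.Normal.Closure

/-!
# Smooth schemes over a field have points with values in finite Galois extensions
-/

set_option autoImplicit false
universe u
open AlgebraicGeometry CategoryTheory Limits

namespace Groth.Agent.Sga3.H780.SepPt

theorem exists_algHom (K R : Type u) [Field K] [CommRing R] [Algebra K R] [Algebra.Smooth K R] [Nontrivial R] :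
    ∃ (L : Type u) (_ : Field L) (_ : Algebra K L) (_ : R →ₐ[K] L), FiniteDimensional K L ∧ IsGalois K L := by
  obtain ⟨m, hm, hu⟩ := FlatA.SeparablePoint.exists_prime_formallyUnramified_of_field K R
  have h1 : Algebra.FiniteType K R := inferInstance
  have h2 : Algebra.EssFiniteType K (Localization.AtPrime m) := by
    have := Algebra.EssFiniteType.of_isLocalization (Localization.AtPrime m) m.primeCompl
    exact Algebra.EssFiniteType.comp K R _
  have h3 : Algebra.EssFiniteType K m.ResidueField := by
    have : Algebra.EssFiniteType (Localization.AtPrime m) m.ResidueField := inferInstance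
    exact Algebra.EssFiniteType.comp K (Localization.AtPrime m) _
  have h4 : Module.Finite K m.ResidueField := Algebra.FormallyUnramified.finite_of_free K m.ResidueField
  have h5 : Algebra.IsSeparable K m.ResidueField := Algebra.FormallyUnramified.isSeparable K m.ResidueField
  let φ : m.ResidueField →ₐ[K] SeparableClosure K := IsSepClosed.lift
  let L : IntermediateField K (SeparableClosure K) :=
    IntermediateField.normalClosure K m.ResidueField (SeparableClosure K)
  have hn : Normal K L := inferInstance
  have hs : Algebra.IsSeparable K L := Algebra.isSeparable_tower_bot_of_isSeparable K L (SeparableClosure K)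
  refine ⟨L, inferInstance, inferInstance, (AlgHom.codRestrict φ L.toSubalgebra
    (fun x => φ.fieldRange_le_normalClosure ⟨x, rfl⟩)).comp (IsScalarTower.toAlgHom K R m.ResidueField),
    inferInstance, ⟨⟩⟩

theorem exists_point (K : Type u) [Field K] {X : Scheme.{u}} (f : X ⟶ Spec (CommRingCat.of K)) [Smooth f]
    [hX : Nonempty X] :
    ∃ (L : Type u) (_ : Field L) (_ : Algebra K L) (P : Spec (CommRingCat.of L) ⟶ X),
      FiniteDimensional K L ∧ IsGalois K L ∧ P ≫ f = Spec.map (CommRingCat.ofHom (algebraMap K L)) := by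
  obtain ⟨x⟩ := hX
  obtain ⟨_, ⟨U, hU, rfl⟩, hxU, -⟩ := X.isBasis_affineOpens.exists_subset_of_mem_open
    (Set.mem_univ x) isOpen_univ
  have hT : IsAffineOpen (⊤ : (Spec (CommRingCat.of K)).Opens) := isAffineOpen_top _
  let kR : K →+* Γ(X, U) := ((Scheme.ΓSpecIso (CommRingCat.of K)).inv ≫ f.appLE ⊤ U (by simp)).hom
  have hkR : hU.fromSpec ≫ f = Spec.map (CommRingCat.ofHom kR) := by
    rw [← IsAffineOpen.SpecMap_appLE_fromSpec f hT hU (by simp)]
    simp [kR, IsAffineOpen.fromSpec_top, Scheme.isoSpec_Spec_inv]
  let : Algebra K Γ(X, U) := kR.toAlgebra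
  have hsm : Algebra.Smooth K Γ(X, U) := by
    have h1 : Smooth (hU.fromSpec ≫ f) := inferInstance
    rw [hkR, HasRingHomProperty.Spec_iff (P := @Smooth)] at h1
    exact RingHom.smooth_algebraMap.mp h1
  have hnt : Nontrivial Γ(X, U) := by
    have : Nonempty U := ⟨⟨_, hxU⟩⟩
    infer_instance
  obtain ⟨L, _, _, φ, h1, h2⟩ := exists_algHom K Γ(X, U)
  refine ⟨L, inferInstance, inferInstance, Spec.map (CommRingCat.ofHom φ.toRingHom) ≫ hU.fromSpec, h1, h2, ?_⟩
  rw [Category.assoc, hkR, ← Spec.map_comp, ← CommRingCat.ofHom_comp]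
  congr 2
  exact φ.comp_algebraMap

end Groth.Agent.Sga3.H780.SepPt
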