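import Groth.Agent.Sga3.H780.CurveAlg
import Mathlib.AlgebraicGeometry.Morphisms.FiniteType
import Mathlib.AlgebraicGeometry.Morphisms.Separated
import Mathlib.AlgebraicGeometry.FunctionField
import Mathlib.FieldTheory.IsAlgClosed.Basic
import Groth.Agent.Books.AntiAffine

/-!
# A morphism that is constant on all curves is constant
-/

set_option autoImplicit false
universe u
open AlgebraicGeometry CategoryTheory Limits MonoidalCategory CartesianMonoidalCategory

namespace Groth.Agent.Sga3.H780.ConstCurve

variable {k : Type u} [Field k]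

/-- The `k`-scheme `Spec K`. -/
noncomputable abbrev specF (k : Type u) [Field k] (K : Type u) [CommRing K] [Algebra k K] :
    Over (Spec (CommRingCat.of k)) := Over.mk (Spec.map (CommRingCat.ofHom (algebraMap k K)))

/-- `X` an integral scheme locally of finite type over an algebraically closed field `k`, `f : X ⟶ A` a `k`-morphism to
a separated `k`-scheme which is constant (with value a `k`-point) on all the points of `X` with values in finitely
generated extensions of transcendence degree one; then `f` is constant. -/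
theorem exists_eq_const [IsAlgClosed k] (X A : Over (Spec (CommRingCat.of k))) [IsIntegral X.left]
    [LocallyOfFiniteType X.hom] [IsSeparated A.hom] (f : X ⟶ A)
    (h : ∀ (K : Type u) [Field K] [Algebra k K], (⊤ : IntermediateField k K).FG → Algebra.trdeg k K = 1 →
      ∀ t : specF k K ⟶ X, ∃ a : 𝟙_ (Over (Spec (CommRingCat.of k))) ⟶ A, t ≫ f = toUnit _ ≫ a) :
    ∃ a : 𝟙_ (Over (Spec (CommRingCat.of k))) ⟶ A, f = toUnit _ ≫ a := by
  have hsub : Subsingleton (Spec (CommRingCat.of k)) := inferInstanceAs (Subsingleton (PrimeSpectrum k))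
  -- affine opens
  obtain ⟨_, ⟨V, hV, rfl⟩, hxV, -⟩ := A.left.isBasis_affineOpens.exists_subset_of_mem_open
    (Set.mem_univ (f.left (genericPoint X.left))) isOpen_univ
  obtain ⟨_, ⟨U, hU, rfl⟩, hxU, hUV⟩ := X.left.isBasis_affineOpens.exists_subset_of_mem_open
    (show genericPoint X.left ∈ f.left ⁻¹ᵁ V from hxV) (f.left ⁻¹ᵁ V).isOpen
  have e : U ≤ f.left ⁻¹ᵁ V := hUV
  let R : Type u := Γ(X.left, U)
  let B : Type u := Γ(A.left, V)
  have hT : IsAffineOpen (⊤ : (Spec (CommRingCat.of k)).Opens) := isAffineOpen_top _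
  let kR : k →+* R := ((Scheme.ΓSpecIso (CommRingCat.of k)).inv ≫ X.hom.appLE ⊤ U (by simp)).hom
  let kB : k →+* B := ((Scheme.ΓSpecIso (CommRingCat.of k)).inv ≫ A.hom.appLE ⊤ V (by simp)).hom
  have hkR : hU.fromSpec ≫ X.hom = Spec.map (CommRingCat.ofHom kR) := by
    rw [← IsAffineOpen.SpecMap_appLE_fromSpec X.hom hT hU (by simp)]
    simp [kR, IsAffineOpen.fromSpec_top, Scheme.isoSpec_Spec_inv]
  have hkB : hV.fromSpec ≫ A.hom = Spec.map (CommRingCat.ofHom kB) := by
    rw [← IsAffineOpen.SpecMap_appLE_fromSpec A.hom hT hV (by simp)]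
    simp [kB, IsAffineOpen.fromSpec_top, Scheme.isoSpec_Spec_inv]
  let : Algebra k R := kR.toAlgebra
  have hft : Algebra.FiniteType k R := by
    have h1 := X.hom.finiteType_appLE hT hU (by simp)
    change kR.FiniteType
    refine RingHom.FiniteType.comp h1 (RingHom.FiniteType.of_surjective _ ?_)
    exact (ConcreteCategory.bijective_of_isIso (Scheme.ΓSpecIso (CommRingCat.of k)).inv).2
  have hdom : IsDomain R := by
    have : Nonempty U := ⟨⟨_, hxU⟩⟩
    infer_instance
  let φ : B →+* R := (f.left.appLE V U e).hom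
  have hφ : Spec.map (CommRingCat.ofHom φ) ≫ hV.fromSpec = hU.fromSpec ≫ f.left :=
    IsAffineOpen.SpecMap_appLE_fromSpec f.left hV hU e
  have hint : ∀ b : B, ∃ c : k, kR c = φ b := by
    intro b
    by_contra hcon
    have htr : Transcendental k (φ b) := by
      intro halg
      apply hcon
      have h1 := (IsAlgClosed.algebraMap_bijective_of_isIntegral (k := k) (K := integralClosure k R)).2
      obtain ⟨c, hc⟩ := h1 ⟨φ b, isAlgebraic_iff_isIntegral.mp halg⟩
      exact ⟨c, congr(($hc : R))⟩
    obtain ⟨K, _, _, ψ, hK1, hK2, hK3⟩ := CurveAlg.exists_algHom k R (φ b) htr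
    let t : specF k K ⟶ X := Over.homMk (Spec.map (CommRingCat.ofHom ψ.toRingHom) ≫ hU.fromSpec) (by
      rw [Category.assoc, hkR, ← Spec.map_comp, ← CommRingCat.ofHom_comp]
      congr 2
      exact ψ.comp_algebraMap)
    obtain ⟨a, ha⟩ := h K hK1 hK2 t
    have ha' : Spec.map (CommRingCat.ofHom (ψ.toRingHom.comp φ)) ≫ hV.fromSpec =
        Spec.map (CommRingCat.ofHom (algebraMap k K)) ≫ a.left := by
      have := congr(($ha).left)
      rw [Over.comp_left, Over.comp_left, Over.toUnit_left] at this
      rw [CommRingCat.ofHom_comp, Spec.map_comp, Category.assoc, hφ, ← Category.assoc]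
      exact this
    -- `a` factors through `V`
    have hr : Set.range a.left ⊆ Set.range hV.fromSpec := by
      rintro _ ⟨z, rfl⟩
      let w : Spec (CommRingCat.of K) := IsLocalRing.closedPoint K
      have h1 : a.left z = a.left (Spec.map (CommRingCat.ofHom (algebraMap k K)) w) := by
        congr 1
        exact hsub.elim _ _
      rw [h1, ← Scheme.Hom.comp_apply, ← ha', Scheme.Hom.comp_apply]
      exact ⟨_, rfl⟩
    let a' := IsOpenImmersion.lift hV.fromSpec a.left hr
    have ha'' : a' ≫ hV.fromSpec = a.left := IsOpenImmersion.lift_fac _ _ _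
    have h2 : Spec.map (CommRingCat.ofHom (ψ.toRingHom.comp φ)) =
        Spec.map (CommRingCat.ofHom (algebraMap k K)) ≫ Spec.map (Spec.preimage a') := by
      rw [← cancel_mono hV.fromSpec, ha', Category.assoc, Spec.map_preimage, ha'']
    rw [← Spec.map_comp] at h2
    have h3 := Spec.map_injective h2
    have h4 : ψ (φ b) = algebraMap k K ((Spec.preimage a').hom b) := congr(($h3).hom b)
    apply hK3
    rw [h4]
    exact isAlgebraic_algebraMap _
  have hinj : Function.Injective kR := kR.injective
  let eR : k ≃+* kR.range := RingEquiv.ofBijective kR.rangeRestrict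
    ⟨fun x y hxy => hinj congr(($hxy : R)), kR.rangeRestrict_surjective⟩
  let α : B →+* k := eR.symm.toRingHom.comp (φ.codRestrict kR.range hint)
  have hα : ∀ b, kR (α b) = φ b := by
    intro b
    have h1 : eR (α b) = φ.codRestrict kR.range hint b := eR.apply_symm_apply _
    exact congr(($h1 : R))
  have hφk : ∀ c, φ (kB c) = kR c := by
    intro c
    have h1 : CommRingCat.ofHom (φ.comp kB) = CommRingCat.ofHom kR := by
      apply Spec.map_injective
      rw [CommRingCat.ofHom_comp, Spec.map_comp, ← hkB, ← hkR, ← Category.assoc, hφ, Category.assoc, Over.w]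
    exact congr(($h1).hom c)
  have hαk : CommRingCat.ofHom (α.comp kB) = 𝟙 _ := by
    ext c
    exact hinj (by change kR (α (kB c)) = kR c; rw [hα, hφk])
  let a : 𝟙_ (Over (Spec (CommRingCat.of k))) ⟶ A := Over.homMk (Spec.map (CommRingCat.ofHom α) ≫ hV.fromSpec) (by
    rw [Category.assoc, hkB, ← Spec.map_comp, ← CommRingCat.ofHom_comp, hαk]
    simp)
  refine ⟨a, ?_⟩
  ext1
  have hdom : IsDominant hU.fromSpec := by
    refine ⟨?_⟩
    have : IrreducibleSpace X.left := inferInstance
    refine hU.fromSpec.isOpenEmbedding.isOpen_range.dense ?_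
    rw [hU.range_fromSpec]
    exact ⟨_, hxU⟩
  refine ext_of_isDominant_of_isSeparated (A.hom) ?_ hU.fromSpec ?_
  · rw [Over.w, Over.w]
  · rw [← hφ, Over.comp_left, Over.toUnit_left, ← Category.assoc, hkR]
    change _ = Spec.map (CommRingCat.ofHom kR) ≫ Spec.map (CommRingCat.ofHom α) ≫ hV.fromSpec
    rw [← Category.assoc, ← Spec.map_comp, ← CommRingCat.ofHom_comp]
    congr 3
    ext b
    exact (hα b).symm

end Groth.Agent.Sga3.H780.ConstCurve
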