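import Mathlib.RingTheory.TensorProduct.Nontrivial
import Mathlib.RingTheory.AlgebraicIndependent.TranscendenceBasis
import Mathlib.RingTheory.Jacobson.Ring
import Mathlib.FieldTheory.IntermediateField.Adjoin.Algebra
import Mathlib.RingTheory.EssentialFiniteness
import Mathlib.RingTheory.Flat.Localization
import Mathlib.RingTheory.FiniteStability

/-!
# Points of transcendence degree one in the generic fibre of a function
-/

set_option autoImplicit false
universe u
open scoped TensorProduct Polynomial nonZeroDivisors

namespace Groth.Agent.Sga3.H780.CurveAlg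

/-- `R` a domain of finite type over the field `k`, `r : R` transcendental over `k`. There is a map from `R` to a
finitely generated extension `K` of `k` of transcendence degree one, such that the image of `r` is transcendental. -/
theorem exists_algHom (k : Type u) [Field k] (R : Type u) [CommRing R] [Algebra k R]
    [Algebra.FiniteType k R] (r : R) (hr : Transcendental k r) :
    ∃ (K : Type u) (_ : Field K) (_ : Algebra k K) (φ : R →ₐ[k] K),
      (⊤ : IntermediateField k K).FG ∧ Algebra.trdeg k K = 1 ∧ Transcendental k (φ r) := by
  let Q : Type u := FractionRing k[X]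
  let : Algebra k[X] R := (Polynomial.aeval r).toAlgebra
  have htow : IsScalarTower k k[X] R := IsScalarTower.of_algebraMap_eq' (by
    ext c
    change algebraMap k R c = Polynomial.aeval r (algebraMap k k[X] c)
    simp)
  have hinj : Function.Injective (algebraMap k[X] R) := by
    exact transcendental_iff_injective.mp hr
  have hfl : Module.Flat k[X] Q := IsLocalization.flat Q (nonZeroDivisors k[X])
  have hnt : Nontrivial (Q ⊗[k[X]] R) :=
    Algebra.TensorProduct.nontrivial_of_algebraMap_injective_of_flat_left k[X] Q R hinj
  have hft' : Algebra.FiniteType k[X] R := Algebra.FiniteType.of_restrictScalars_finiteType k k[X] R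
  have hft : Algebra.FiniteType Q (Q ⊗[k[X]] R) := inferInstance
  obtain ⟨M, hM⟩ := Ideal.exists_maximal (Q ⊗[k[X]] R)
  let K := (Q ⊗[k[X]] R) ⧸ M
  let : Field K := Ideal.Quotient.field M
  have hQK : Module.Finite Q K := finite_of_finite_type_of_isJacobsonRing Q K
  let φ' : R →ₐ[k[X]] K := (Ideal.Quotient.mkₐ k[X] M).comp Algebra.TensorProduct.includeRight
  have hkQK : IsScalarTower k Q K := inferInstance
  have : Algebra.EssFiniteType k k[X] := inferInstance
  have h1 : Algebra.EssFiniteType k Q := by
    have : Algebra.EssFiniteType k[X] Q := Algebra.EssFiniteType.of_isLocalization Q (nonZeroDivisors k[X])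
    exact Algebra.EssFiniteType.comp k k[X] Q
  have h2 : Algebra.EssFiniteType k K := Algebra.EssFiniteType.comp k Q K
  have h3 : Algebra.trdeg k Q = 1 := by
    have halg : Algebra.IsAlgebraic k[X] Q := IsLocalization.isAlgebraic Q (nonZeroDivisors k[X])
    have := trdeg_add_eq k k[X] (A := Q)
    rw [Polynomial.trdeg_of_isDomain, trdeg_eq_zero, add_zero] at this
    exact this.symm
  have h4 : Algebra.trdeg k K = 1 := by
    have := trdeg_add_eq k Q (A := K)
    rw [h3, trdeg_eq_zero, add_zero] at this
    exact this.symm
  refine ⟨K, inferInstance, inferInstance, φ'.restrictScalars k, IntermediateField.fg_top_iff.mpr h2, h4, ?_⟩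
  have h5 : φ'.restrictScalars k r = algebraMap Q K (algebraMap k[X] Q Polynomial.X) := by
    have : r = algebraMap k[X] R Polynomial.X := by
      change r = Polynomial.aeval r Polynomial.X
      simp
    conv_lhs => rw [this]
    change φ' (algebraMap k[X] R Polynomial.X) = _
    rw [AlgHom.commutes, ← IsScalarTower.algebraMap_apply]
  rw [h5]
  have h6 : Transcendental k (Polynomial.X : k[X]) := Polynomial.transcendental_X k
  have h7 : Function.Injective (algebraMap k[X] K) := by
    rw [IsScalarTower.algebraMap_eq k[X] Q K, RingHom.coe_comp]
    exact (algebraMap Q K).injective.comp (IsFractionRing.injective k[X] Q)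
  rw [← IsScalarTower.algebraMap_apply]
  exact (transcendental_algebraMap_iff h7).mpr h6

end Groth.Agent.Sga3.H780.CurveAlg
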