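import Groth.Agent.S2345
import Groth.Agent.VarietyA.SmoothReg
import Groth.Agent.VarietyA.StalkBC
import Groth.Agent.Dix.NormalLoc
import Mathlib.AlgebraicGeometry.AlgClosed.Basic

/-!
# Smooth proper models of function fields of curves over a perfect field
-/

set_option autoImplicit false
universe u
open AlgebraicGeometry CategoryTheory Limits

namespace Groth.Agent.Sga3.H780.CurveModel

attribute [local instance] Curv2.stalkAlgebra

theorem exists_smooth_curve (k : Type u) [Field k] [PerfectField k] (K : Type u) [Field K] [Algebra k K]
    (hfg : (⊤ : IntermediateField k K).FG) (htr : Algebra.trdeg k K = 1) :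
    ∃ (X : Scheme.{u}) (p : X ⟶ Spec (CommRingCat.of k)) (_ : IsIntegral X), IsProper p ∧ Smooth p ∧
      ∃ e : X.functionField ≅ CommRingCat.of K,
        X.fromSpecStalk (genericPoint X) ≫ p = Spec.map e.inv ≫
          Spec.map (CommRingCat.ofHom (algebraMap k K)) := by
  obtain ⟨X, hXk, hint, hprop, hnorm, hdim, e, he⟩ := Groth.Agent.S2345.result k K hfg htr
  let p : X ⟶ Spec (CommRingCat.of k) := X ↘ (Spec (CommRingCat.of k))
  have hprop' : IsProper p := hprop
  have hLN : IsLocallyNoetherian X := LocallyOfFiniteType.isLocallyNoetherian p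
  have hJ : JacobsonSpace X := LocallyOfFiniteType.jacobsonSpace p
  refine ⟨X, p, hint, hprop, ?_, e.toCommRingCatIso, ?_⟩
  · have hlfp : LocallyOfFinitePresentation p := inferInstance
    have htop : p.smoothLocus = ⊤ := by
      by_contra hcon
      have hne : ((p.smoothLocus : Set X)ᶜ).Nonempty := by
        rw [Set.nonempty_compl]
        intro h
        exact hcon (TopologicalSpace.Opens.ext h)
      obtain ⟨x, hx, hxc⟩ := nonempty_inter_closedPoints hne
        p.smoothLocus.isOpen.isClosed_compl.isLocallyClosed
      apply hx
      have h1 := hdim x hxc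
      have h2 := hnorm x
      have := h2.1
      have := h2.2
      have h3 := (Dix.NormalLoc.valuationRing_of_not_two_le_ringKrullDim (X.presheaf.stalk x) (by
        rw [h1]; decide)).1
      have h5 : IsPrincipalIdealRing (X.presheaf.stalk x) := inferInstance
      change x ∈ p.smoothLocus
      rw [VarietyA.SmoothReg.mem_smoothLocus_iff_of_perfectField]
      infer_instance
    exact Scheme.Hom.smoothLocus_eq_top_iff.mp htop
  · rw [VarietyA.StalkBC.fromSpecStalk_comp p (genericPoint X), ← Spec.map_comp]
    congr 1
    ext c
    have h1 := he c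
    have h2 : algebraMap k (X.presheaf.stalk (genericPoint X)) c = VarietyA.StalkBC.stalkRingHom p (genericPoint X) c := rfl
    rw [h2] at h1
    change VarietyA.StalkBC.stalkRingHom p (genericPoint X) c = e.symm (algebraMap k K c)
    rw [← h1, RingEquiv.symm_apply_apply]

end Groth.Agent.Sga3.H780.CurveModel
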