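import Mathlib.AlgebraicGeometry.ResidueField
import Mathlib.FieldTheory.Galois.Infinite
import Mathlib.FieldTheory.IsSepClosed

/-!
# Galois descent of field valued points
-/

set_option autoImplicit false
universe u
open AlgebraicGeometry CategoryTheory Limits

namespace Groth.Agent.Sga3.H780.FieldPt

/-- A point of a scheme with values in a Galois extension `L` of `F` invariant under `Gal(L/F)` comes from a point
with values in `F`. -/
theorem exists_factor (F L : Type u) [Field F] [Field L] [Algebra F L] [IsGalois F L] {X : Scheme.{u}}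
    (a : Spec (CommRingCat.of L) ⟶ X)
    (h : ∀ g : L ≃ₐ[F] L, Spec.map (CommRingCat.ofHom (g : L →+* L)) ≫ a = a) :
    ∃ θ : Spec (CommRingCat.of F) ⟶ X, Spec.map (CommRingCat.ofHom (algebraMap F L)) ≫ θ = a := by
  let x := a (IsLocalRing.closedPoint L)
  let ψ : X.residueField x ⟶ CommRingCat.of L := Scheme.descResidueField (Scheme.stalkClosedPointTo a)
  have hψ : Spec.map ψ ≫ X.fromSpecResidueField x = a :=
    Scheme.descResidueField_stalkClosedPointTo_fromSpecResidueField _ _ a
  have hfix : ∀ (g : L ≃ₐ[F] L) (z : X.residueField x), g (ψ.hom z) = ψ.hom z := by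
    intro g z
    have h1 : ψ ≫ CommRingCat.ofHom (g : L →+* L) = ψ := by
      apply Spec.map_injective
      rw [← cancel_mono (X.fromSpecResidueField x), Spec.map_comp, Category.assoc, hψ, h]
    exact congr(($h1).hom z)
  have hr : ∀ z : X.residueField x, ∃ c : F, algebraMap F L c = ψ.hom z := fun z =>
    (InfiniteGalois.mem_range_algebraMap_iff_fixed (ψ.hom z)).mpr (fun g => hfix g z)
  let eF : F ≃+* (algebraMap F L).range := RingEquiv.ofBijective (algebraMap F L).rangeRestrict
    ⟨fun x y hxy => (algebraMap F L).injective congr(($hxy : L)), (algebraMap F L).rangeRestrict_surjective⟩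
  let α : X.residueField x →+* F := eF.symm.toRingHom.comp (ψ.hom.codRestrict (algebraMap F L).range hr)
  have hα : ∀ b, algebraMap F L (α b) = ψ.hom b := by
    intro b
    have h1 : eF (α b) = ψ.hom.codRestrict (algebraMap F L).range hr b := eF.apply_symm_apply _
    exact congr(($h1 : L))
  refine ⟨Spec.map (CommRingCat.ofHom α) ≫ X.fromSpecResidueField x, ?_⟩
  rw [← Category.assoc, ← Spec.map_comp, ← hψ]
  congr 2
  ext b
  exact hα b

end Groth.Agent.Sga3.H780.FieldPt
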