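import Groth.Agent.Sga3.H780.NormForm
import Groth.Agent.Sga3.H780.FieldPt
import Mathlib.AlgebraicGeometry.Morphisms.Flat
import Mathlib.FieldTheory.IsAlgClosed.AlgebraicClosure

/-!
# The norm of a point of a torsor: points with values in fields
-/

set_option autoImplicit false
universe u
open AlgebraicGeometry CategoryTheory Limits MonoidalCategory CartesianMonoidalCategory MonObj

namespace Groth.Agent.Sga3.H780.NormField

/-- Two embeddings of a normal extension differ by an automorphism. -/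
theorem exists_algEquiv (K K' L : Type u) [Field K] [Field K'] [Field L] [Algebra K K'] [Normal K K']
    (φ φ' : K' →+* L) (h : φ.comp (algebraMap K K') = φ'.comp (algebraMap K K')) :
    ∃ γ : K' ≃ₐ[K] K', φ' = φ.comp (γ : K' →+* K') := by
  let : Algebra K L := (φ.comp (algebraMap K K')).toAlgebra
  let : Algebra K' L := φ.toAlgebra
  have : IsScalarTower K K' L := IsScalarTower.of_algebraMap_eq' rfl
  let ψ : K' →ₐ[K] L := { φ' with commutes' := fun c => (congr(($h) c)).symm }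
  let γ : K' →ₐ[K] K' := ψ.restrictNormal K'
  have hγ : Function.Bijective γ := Algebra.IsAlgebraic.algHom_bijective γ
  refine ⟨AlgEquiv.ofBijective γ hγ, ?_⟩
  ext x
  exact (ψ.restrictNormal_commutes K' x).symm

/-- Extension of a homomorphism of fields to an algebraic extension. -/
theorem exists_extension (F L₀ L : Type u) [Field F] [Field L₀] [Field L] [Algebra F L₀] [Algebra.IsAlgebraic F L₀]
    (φ : F →+* L) : ∃ j : L₀ →+* AlgebraicClosure L,
      j.comp (algebraMap F L₀) = (algebraMap L (AlgebraicClosure L)).comp φ := by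
  let : Algebra F L := φ.toAlgebra
  let : Algebra F (AlgebraicClosure L) := ((algebraMap L (AlgebraicClosure L)).comp φ).toAlgebra
  let j : L₀ →ₐ[F] AlgebraicClosure L := IsAlgClosed.lift
  exact ⟨j.toRingHom, j.comp_algebraMap⟩

theorem epi_specMap (F L : Type u) [Field F] [Field L] (φ : F →+* L) :
    Epi (Spec.map (CommRingCat.ofHom φ)) := by
  have : Flat (Spec.map (CommRingCat.ofHom φ)) := by
    algebraize [φ]
    rw [Flat.SpecMap_iff]
    change φ.Flat
    rw [← RingHom.algebraMap_toAlgebra φ, RingHom.flat_algebraMap_iff]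
    infer_instance
  have : Surjective (Spec.map (CommRingCat.ofHom φ)) :=
    ⟨fun x => ⟨IsLocalRing.closedPoint L, Subsingleton.elim (α := PrimeSpectrum F) _ _⟩⟩
  exact Flat.epi_of_flat_of_surjective _

variable {S : Scheme.{u}} {A G Q : Over S} [GrpObj A] [GrpObj G] [GrpObj Q] [IsCommMonObj A]
  (u : A ⟶ G) (p : G ⟶ Q) (hk : IsPullback u (toUnit A) p η[Q]) [IsMonHom p] [IsMonHom u]
  (hc : ∀ (X : Over S) (g : X ⟶ G) (x : X ⟶ A), g * (x ≫ u) = (x ≫ u) * g)
  (K K' F : Type u) [Field K] [Field K'] [Field F] [Algebra K K'] [FiniteDimensional K K'] [IsGalois K K']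
  (c : Spec (CommRingCat.of K) ⟶ S) (j : Over.mk c ⟶ Q) [Mono j]
  (P : Over.mk (Spec.map (CommRingCat.ofHom (algebraMap K K')) ≫ c) ⟶ G)
  (hP : P ≫ p = Over.homMk (Spec.map (CommRingCat.ofHom (algebraMap K K'))) rfl ≫ j)
  (cF : Spec (CommRingCat.of F) ⟶ S) (ξ : Over.mk cF ⟶ G) (i : Over.mk cF ⟶ Over.mk c) (hi : i ≫ j = ξ ≫ p)

include hk hc hP hi in
theorem exists_norm : ∃ θ : Over.mk cF ⟶ A, ∀ (L : Type u) [Field L] (cL : Spec (CommRingCat.of L) ⟶ S)
    (i₁ i₂ : Over.mk cL ⟶ Over.mk cF) (b : Over.mk cL ⟶ A), i₂ ≫ ξ = (i₁ ≫ ξ) * (b ≫ u) →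
      i₂ ≫ θ = (i₁ ≫ θ) * b ^ (Fintype.card (K' ≃ₐ[K] K')) := by
  let q : Over.mk (Spec.map (CommRingCat.ofHom (algebraMap K K')) ≫ c) ⟶ Over.mk c :=
    Over.homMk (Spec.map (CommRingCat.ofHom (algebraMap K K'))) rfl
  let κ' : Over S := Over.mk (Spec.map (CommRingCat.ofHom (algebraMap K K')) ≫ c)
  have hs0 : ∀ γ : K' ≃ₐ[K] K', Spec.map (CommRingCat.ofHom (γ : K' →+* K')) ≫
      Spec.map (CommRingCat.ofHom (algebraMap K K')) = Spec.map (CommRingCat.ofHom (algebraMap K K')) := by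
    intro γ
    rw [← Spec.map_comp, ← CommRingCat.ofHom_comp]
    congr 2
    exact (γ : K' →ₐ[K] K').comp_algebraMap
  let s : (K' ≃ₐ[K] K') → (κ' ⟶ κ') := fun γ => Over.homMk (Spec.map (CommRingCat.ofHom (γ : K' →+* K'))) (by
    change Spec.map _ ≫ Spec.map _ ≫ c = Spec.map _ ≫ c
    rw [← Category.assoc, hs0])
  have hsq : ∀ γ, s γ ≫ q = q := by
    intro γ
    ext1
    exact hs0 γ
  have hmul : ∀ γ δ, s δ ≫ s γ = s (δ * γ) := by
    intro γ δ
    ext1
    change Spec.map _ ≫ Spec.map _ = Spec.map _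
    rw [← Spec.map_comp, ← CommRingCat.ofHom_comp]
    rfl
  have hs : ∀ γ, s γ ≫ P ≫ p = P ≫ p := by
    intro γ
    rw [hP]
    change s γ ≫ q ≫ j = q ≫ j
    rw [← Category.assoc, hsq]
  -- the Galois property
  have hgal : ∀ (L : Type u) [Field L] (cL : Spec (CommRingCat.of L) ⟶ S) (τ τ' : Over.mk cL ⟶ κ'),
      τ ≫ q = τ' ≫ q → ∃ γ, τ' = τ ≫ s γ := by
    intro L _ cL τ τ' hτ
    obtain ⟨φ, hφ⟩ := Spec.map_surjective τ.left
    obtain ⟨φ', hφ'⟩ := Spec.map_surjective τ'.left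
    have h1 : φ.hom.comp (algebraMap K K') = φ'.hom.comp (algebraMap K K') := by
      have h2 := congr(($hτ).left)
      rw [Over.comp_left, Over.comp_left, ← hφ, ← hφ'] at h2
      change Spec.map φ ≫ Spec.map (CommRingCat.ofHom _) = Spec.map φ' ≫ Spec.map (CommRingCat.ofHom _) at h2
      rw [← Spec.map_comp, ← Spec.map_comp] at h2
      exact congr(($(Spec.map_injective h2)).hom)
    obtain ⟨γ, hγ⟩ := exists_algEquiv K K' L φ.hom φ'.hom h1
    refine ⟨γ, ?_⟩
    ext1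
    change τ'.left = τ.left ≫ Spec.map (CommRingCat.ofHom (γ : K' →+* K'))
    rw [← hφ, ← hφ', ← Spec.map_comp]
    congr 1
    ext x
    exact congr(($hγ) x)
  -- the separable closure of `F`
  obtain ⟨φ, hφ⟩ := Spec.map_surjective i.left
  let L₀ : Type u := SeparableClosure F
  let : Algebra K L₀ := ((algebraMap F L₀).comp φ.hom).toAlgebra
  let σ : K' →ₐ[K] L₀ := IsSepClosed.lift
  let T₀ : Over S := Over.mk (Spec.map (CommRingCat.ofHom (algebraMap F L₀)) ≫ cF)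
  let e : T₀ ⟶ Over.mk cF := Over.homMk (Spec.map (CommRingCat.ofHom (algebraMap F L₀))) rfl
  have hiw : Spec.map φ ≫ c = cF := by
    rw [hφ]
    exact Over.w i
  have hσ0 : Spec.map (CommRingCat.ofHom σ.toRingHom) ≫ Spec.map (CommRingCat.ofHom (algebraMap K K')) =
      Spec.map (CommRingCat.ofHom (algebraMap F L₀)) ≫ Spec.map φ := by
    rw [← Spec.map_comp, ← Spec.map_comp, ← CommRingCat.ofHom_comp]
    congr 1
    exact CommRingCat.hom_ext (RingHom.ext fun x => σ.commutes x)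
  let σ' : T₀ ⟶ κ' := Over.homMk (Spec.map (CommRingCat.ofHom σ.toRingHom)) (by
    change Spec.map _ ≫ Spec.map _ ≫ c = Spec.map _ ≫ cF
    rw [← Category.assoc, hσ0, Category.assoc, hiw])
  have hσq : σ' ≫ q = e ≫ i := by
    ext1
    change Spec.map _ ≫ Spec.map _ = Spec.map _ ≫ i.left
    rw [hσ0, hφ]
  have hcond : (e ≫ ξ) ≫ p = σ' ≫ P ≫ p := by
    rw [hP]
    change _ = σ' ≫ q ≫ j
    rw [← Category.assoc σ', hσq, Category.assoc, Category.assoc, hi]
  let N₀ : T₀ ⟶ A := NormForm.nrm u P s (e ≫ ξ) σ'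
  have hinv : ∀ g : L₀ ≃ₐ[F] L₀, Spec.map (CommRingCat.ofHom (g : L₀ →+* L₀)) ≫ N₀.left = N₀.left := by
    intro g
    have hg0 : Spec.map (CommRingCat.ofHom (g : L₀ →+* L₀)) ≫ Spec.map (CommRingCat.ofHom (algebraMap F L₀)) =
        Spec.map (CommRingCat.ofHom (algebraMap F L₀)) := by
      rw [← Spec.map_comp, ← CommRingCat.ofHom_comp]
      congr 2
      exact (g : L₀ →ₐ[F] L₀).comp_algebraMap
    let g' : T₀ ⟶ T₀ := Over.homMk (Spec.map (CommRingCat.ofHom (g : L₀ →+* L₀))) (by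
      change Spec.map _ ≫ Spec.map _ ≫ cF = Spec.map _ ≫ cF
      rw [← Category.assoc, hg0])
    have hge : g' ≫ e = e := by
      ext1
      exact hg0
    obtain ⟨γ, hγ⟩ := hgal L₀ _ σ' (g' ≫ σ') (by rw [Category.assoc, hσq, ← Category.assoc, hge])
    have h1 : g' ≫ N₀ = N₀ := by
      change g' ≫ NormForm.nrm u P s (e ≫ ξ) σ' = NormForm.nrm u P s (e ≫ ξ) σ'
      rw [NormForm.comp_nrm u p hk P s hs g' _ _ hcond, hγ, NormForm.nrm_perm u P s hmul, ← Category.assoc, hge]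
    exact congr(($h1).left)
  obtain ⟨θ, hθ⟩ := FieldPt.exists_factor F L₀ N₀.left hinv
  have hepi := epi_specMap F L₀ (algebraMap F L₀)
  let θ' : Over.mk cF ⟶ A := Over.homMk θ (by
    rw [← cancel_epi (Spec.map (CommRingCat.ofHom (algebraMap F L₀))), ← Category.assoc, hθ]
    exact Over.w N₀)
  have hθ' : e ≫ θ' = N₀ := by
    ext1
    exact hθ
  refine ⟨θ', ?_⟩
  intro L _ cL i₁ i₂ b hb
  let M : Type u := AlgebraicClosure L
  let T' : Over S := Over.mk (Spec.map (CommRingCat.ofHom (algebraMap L M)) ≫ cL)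
  let r : T' ⟶ Over.mk cL := Over.homMk (Spec.map (CommRingCat.ofHom (algebraMap L M))) rfl
  have hr : Epi r := by
    have : Epi r.left := epi_specMap L M (algebraMap L M)
    exact Over.epi_of_epi_left _
  have hext : ∀ i₁ : Over.mk cL ⟶ Over.mk cF, ∃ j₁ : T' ⟶ T₀, j₁ ≫ e = r ≫ i₁ := by
    intro i₁
    obtain ⟨ψ, hψ⟩ := Spec.map_surjective i₁.left
    obtain ⟨j₁, hj₁⟩ := exists_extension F L₀ L ψ.hom
    have h0 : Spec.map (CommRingCat.ofHom j₁) ≫ Spec.map (CommRingCat.ofHom (algebraMap F L₀)) =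
        Spec.map (CommRingCat.ofHom (algebraMap L M)) ≫ i₁.left := by
      rw [← hψ, ← Spec.map_comp, ← Spec.map_comp, ← CommRingCat.ofHom_comp, hj₁]
      rfl
    refine ⟨Over.homMk (Spec.map (CommRingCat.ofHom j₁)) ?_, ?_⟩
    · change Spec.map _ ≫ Spec.map _ ≫ cF = Spec.map _ ≫ cL
      rw [← Category.assoc, h0, Category.assoc]
      congr 1
      exact Over.w i₁
    · ext1
      exact h0
  obtain ⟨j₁, hj₁⟩ := hext i₁
  obtain ⟨j₂, hj₂⟩ := hext i₂
  have e1 : r ≫ i₁ ≫ θ' = NormForm.nrm u P s (r ≫ i₁ ≫ ξ) (j₁ ≫ σ') := by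
    rw [← Category.assoc, ← hj₁, Category.assoc, hθ']
    change j₁ ≫ NormForm.nrm u P s (e ≫ ξ) σ' = _
    rw [NormForm.comp_nrm u p hk P s hs j₁ _ _ hcond, ← Category.assoc j₁, hj₁, Category.assoc]
  have e2 : r ≫ i₂ ≫ θ' = NormForm.nrm u P s (r ≫ i₂ ≫ ξ) (j₂ ≫ σ') := by
    rw [← Category.assoc, ← hj₂, Category.assoc, hθ']
    change j₂ ≫ NormForm.nrm u P s (e ≫ ξ) σ' = _
    rw [NormForm.comp_nrm u p hk P s hs j₂ _ _ hcond, ← Category.assoc j₂, hj₂, Category.assoc]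
  have e3 : (j₁ ≫ σ') ≫ q = (j₂ ≫ σ') ≫ q := by
    rw [← cancel_mono j]
    simp only [Category.assoc]
    have hq : ∀ (j₀ : T' ⟶ T₀), j₀ ≫ σ' ≫ q ≫ j = (j₀ ≫ e) ≫ ξ ≫ p := by
      intro j₀
      rw [← Category.assoc σ', hσq, ← hi]
      simp only [Category.assoc]
    rw [hq, hq, hj₁, hj₂]
    have h4 : i₂ ≫ ξ ≫ p = i₁ ≫ ξ ≫ p := by
      rw [← Category.assoc, hb, NormForm.mul_comp_p u p hk, Category.assoc]
    simp only [Category.assoc]
    rw [h4]
  obtain ⟨γ, hγ⟩ := hgal M _ (j₁ ≫ σ') (j₂ ≫ σ') e3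
  have hcond1 : (r ≫ i₁ ≫ ξ) ≫ p = (j₁ ≫ σ') ≫ P ≫ p := by
    rw [← Category.assoc, ← hj₁]
    simp only [Category.assoc]
    rw [← hcond]
    simp only [Category.assoc]
  rw [← cancel_epi r, e2, hγ, NormForm.nrm_perm u P s hmul, hb, MonObj.comp_mul, MonObj.comp_mul, ← Category.assoc r b,
    NormForm.nrm_mul u p hk P s hs hc _ _ hcond1, e1, MonObj.comp_pow]

end Groth.Agent.Sga3.H780.NormField
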