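import Groth.Prelude.Def_AlgGrp

/-!
# The norm of a point of a torsor: formal part

`u : A ⟶ G` a central homomorphism which is the kernel of `p : G ⟶ Q`. For points `x`, `y` of `G` with the same image in
`Q`, `quo u x y` is the point of `A` with image `x * y⁻¹`. For a finite group `Γ` acting on `κ` and `P : κ ⟶ G` with
`s γ ≫ P ≫ p = P ≫ p`, `nrm u P s x τ = ∏ γ, quo u x (τ ≫ s γ ≫ P)`.
-/

set_option autoImplicit false
universe v w w'
open CategoryTheory Limits MonoidalCategory CartesianMonoidalCategory MonObj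

namespace Groth.Agent.Sga3.H780.NormForm

variable {C : Type w} [Category.{v} C] [CartesianMonoidalCategory C] [BraidedCategory C] {A G Q : C}
  [GrpObj A] [GrpObj G] [GrpObj Q]

open Classical in
/-- The point of `A` with image `x * y⁻¹` in `G` (if there is one). -/
noncomputable def quo (u : A ⟶ G) {T : C} (x y : T ⟶ G) : T ⟶ A :=
  if h : ∃ c : T ⟶ A, c ≫ u = x * y⁻¹ then h.choose else 1

section quo

variable (u : A ⟶ G) (p : G ⟶ Q) (hk : IsPullback u (toUnit A) p η[Q])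

omit [BraidedCategory C] [GrpObj A] [GrpObj G] in
include hk in
theorem mono_kernel : Mono u := by
  refine ⟨fun {Z} a b hab => hk.hom_ext hab (toUnit_unique _ _)⟩

omit [BraidedCategory C] in
include hk in
theorem quo_spec [IsMonHom p] {T : C} (x y : T ⟶ G) (h : x ≫ p = y ≫ p) : quo u x y ≫ u = x * y⁻¹ := by
  have hex : ∃ c : T ⟶ A, c ≫ u = x * y⁻¹ := by
    refine ⟨hk.lift (x * y⁻¹) (toUnit T) ?_, hk.lift_fst _ _ _⟩
    rw [MonObj.mul_comp, GrpObj.inv_comp, h, mul_inv_cancel, Hom.one_def]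
  rw [quo, dif_pos hex]
  exact hex.choose_spec

omit [BraidedCategory C] in
include hk in
theorem quo_unique [IsMonHom p] {T : C} (x y : T ⟶ G) (h : x ≫ p = y ≫ p) (c : T ⟶ A) (hc : c ≫ u = x * y⁻¹) :
    quo u x y = c := by
  have := mono_kernel u p hk
  rw [← cancel_mono u, quo_spec u p hk x y h, hc]

omit [BraidedCategory C] in
include hk in
theorem comp_quo [IsMonHom p] {T T' : C} (f : T' ⟶ T) (x y : T ⟶ G) (h : x ≫ p = y ≫ p) :
    f ≫ quo u x y = quo u (f ≫ x) (f ≫ y) := by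
  symm
  apply quo_unique u p hk
  · rw [Category.assoc, Category.assoc, h]
  · rw [Category.assoc, quo_spec u p hk x y h, MonObj.comp_mul, GrpObj.comp_inv]

omit [BraidedCategory C] [GrpObj A] in
include hk in
theorem mul_comp_p [IsMonHom p] {T : C} (x : T ⟶ G) (b : T ⟶ A) : (x * (b ≫ u)) ≫ p = x ≫ p := by
  rw [MonObj.mul_comp, Category.assoc, hk.w, ← Category.assoc, toUnit_unique (b ≫ toUnit A) (toUnit T),
    ← Hom.one_def, _root_.mul_one]

omit [BraidedCategory C] in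
include hk in
theorem quo_mul [IsMonHom p] [IsMonHom u]
    (hc : ∀ (X : C) (g : X ⟶ G) (x : X ⟶ A), g * (x ≫ u) = (x ≫ u) * g)
    {T : C} (x y : T ⟶ G) (h : x ≫ p = y ≫ p) (b : T ⟶ A) :
    quo u (x * (b ≫ u)) y = quo u x y * b := by
  apply quo_unique u p hk
  · rw [mul_comp_p u p hk, h]
  · rw [MonObj.mul_comp, quo_spec u p hk x y h, _root_.mul_assoc, _root_.mul_assoc, hc]

end quo

variable {Γ : Type w'} [Group Γ] [Fintype Γ]

/-- The norm. -/
noncomputable def nrm [IsCommMonObj A] (u : A ⟶ G) {κ : C} (P : κ ⟶ G) (s : Γ → (κ ⟶ κ)) {T : C} (x : T ⟶ G) (τ : T ⟶ κ) :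
    T ⟶ A := ∏ γ, quo u x (τ ≫ s γ ≫ P)

/-- Composition as a homomorphism. -/
def compHom [IsCommMonObj A] {T T' : C} (f : T' ⟶ T) : (T ⟶ A) →* (T' ⟶ A) where
  toFun g := f ≫ g
  map_one' := by simp
  map_mul' _ _ := MonObj.comp_mul _ _ _

variable [IsCommMonObj A] (u : A ⟶ G) (p : G ⟶ Q) (hk : IsPullback u (toUnit A) p η[Q]) {κ : C} (P : κ ⟶ G)
    (s : Γ → (κ ⟶ κ)) (hs : ∀ γ, s γ ≫ P ≫ p = P ≫ p)

omit [Group Γ] in
include hk hs in
theorem comp_nrm [IsMonHom p] {T T' : C} (f : T' ⟶ T) (x : T ⟶ G) (τ : T ⟶ κ) (h : x ≫ p = τ ≫ P ≫ p) :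
    f ≫ nrm u P s x τ = nrm u P s (f ≫ x) (f ≫ τ) := by
  change compHom f (∏ γ, quo u x (τ ≫ s γ ≫ P)) = ∏ γ, quo u (f ≫ x) ((f ≫ τ) ≫ s γ ≫ P)
  rw [map_prod]
  refine Finset.prod_congr rfl (fun γ _ => ?_)
  change f ≫ quo u x (τ ≫ s γ ≫ P) = _
  rw [comp_quo u p hk, Category.assoc]
  simp only [Category.assoc, h, hs]

omit [Group Γ] in
include hk hs in
theorem nrm_mul [IsMonHom p] [IsMonHom u]
    (hc : ∀ (X : C) (g : X ⟶ G) (x : X ⟶ A), g * (x ≫ u) = (x ≫ u) * g)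
    {T : C} (x : T ⟶ G) (τ : T ⟶ κ) (h : x ≫ p = τ ≫ P ≫ p) (b : T ⟶ A) :
    nrm u P s (x * (b ≫ u)) τ = nrm u P s x τ * b ^ Fintype.card Γ := by
  rw [nrm, nrm, Finset.prod_congr rfl (fun γ _ => quo_mul u p hk hc x (τ ≫ s γ ≫ P)
    (by simp only [Category.assoc, h, hs]) b), Finset.prod_mul_distrib, Finset.prod_const, Finset.card_univ]

theorem nrm_perm (hmul : ∀ γ δ, s δ ≫ s γ = s (δ * γ)) {T : C} (x : T ⟶ G) (τ : T ⟶ κ) (δ : Γ) :
    nrm u P s x (τ ≫ s δ) = nrm u P s x τ := by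
  rw [nrm, nrm]
  refine Fintype.prod_equiv (Equiv.mulLeft δ) _ _ (fun γ => ?_)
  rw [Category.assoc, ← Category.assoc (s δ), hmul, Equiv.coe_mulLeft]

end Groth.Agent.Sga3.H780.NormForm
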