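import Groth.Agent.Books.AntiAffine
import Groth.Agent.Sga67.DVRConn

/-!
# The rigidity lemma

`rigid`: `P` proper geometrically integral over a field, `Y` any scheme with `P × Y` integral, `A` separated,
`ψ : P × Y ⟶ A` constant on `P × {y₀}`; then `ψ(p, y) = ψ(p₀, y)`.
-/

set_option autoImplicit false
universe u
open AlgebraicGeometry CategoryTheory Limits MonoidalCategory CartesianMonoidalCategory

namespace Groth.Agent.Sga3.H780.RigidProper

variable {k : Type u} [Field k]

theorem isIso_appTop_hom (P : Over (Spec (CommRingCat.of k))) [IsProper P.hom] [GeometricallyIntegral P.hom] :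
    IsIso P.hom.appTop :=
  (ConcreteCategory.isIso_iff_bijective P.hom.appTop).mpr (Sga67.DVRConn.appTop_bijective_of_field k P.left P.hom)

set_option backward.isDefEq.respectTransparency false in
theorem isIso_section_appTop (P T : Over (Spec (CommRingCat.of k))) [IsProper P.hom] [GeometricallyIntegral P.hom]
    [IsAffine T.left] (p₀ : 𝟙_ (Over (Spec (CommRingCat.of k))) ⟶ P) :
    IsIso (lift (toUnit T ≫ p₀) (𝟙 T)).left.appTop := by
  have H : IsPullback (fst P T).left (snd P T).left P.hom T.hom := IsPullback.of_hasPullback _ _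
  have hflat : Flat T.hom := inferInstance
  have := isIso_appTop_hom P
  have hc : CompactSpace P.left := (quasiCompact_iff_compactSpace P.hom).mp inferInstance
  have hq : QuasiSeparatedSpace P.left := (quasiSeparated_iff_quasiSeparatedSpace P.hom).mp inferInstance
  have h := Books.AntiAffine.isPushout_appTop_of_flat H
  have h1 : IsIso (snd P T).left.appTop := h.isIso_inr_of_isIso
  have h2 : (lift (toUnit T ≫ p₀) (𝟙 T)).left ≫ (snd P T).left = 𝟙 _ := by
    rw [← Over.comp_left]; simp
  have h3 := congr(($h2).appTop)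
  rw [Scheme.Hom.comp_appTop] at h3
  have h4 : (lift (toUnit T ≫ p₀) (𝟙 T)).left.appTop = inv (snd P T).left.appTop := by
    rw [← cancel_epi (snd P T).left.appTop, h3]; simp
  rw [h4]
  infer_instance

/-- Two morphisms `P × T ⟶ A` (`T` affine) landing in an affine open of `A` which agree along a section are equal. -/
theorem eq_of_section (P T A : Over (Spec (CommRingCat.of k))) [IsProper P.hom] [GeometricallyIntegral P.hom]
    [IsAffine T.left] (p₀ : 𝟙_ (Over (Spec (CommRingCat.of k))) ⟶ P) (α β : P ⊗ T ⟶ A) (W : A.left.Opens)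
    (hW : IsAffineOpen W) (hα : ∀ z, α.left z ∈ W) (hβ : ∀ z, β.left z ∈ W)
    (h : lift (toUnit T ≫ p₀) (𝟙 T) ≫ α = lift (toUnit T ≫ p₀) (𝟙 T) ≫ β) : α = β := by
  have : IsAffine W := hW
  have h4 : Set.range α.left ⊆ Set.range W.ι := by
    rintro _ ⟨z, rfl⟩; simpa using hα z
  have h5 : Set.range β.left ⊆ Set.range W.ι := by
    rintro _ ⟨z, rfl⟩; simpa using hβ z
  let α' := IsOpenImmersion.lift W.ι α.left h4
  let β' := IsOpenImmersion.lift W.ι β.left h5
  have hα' : α' ≫ W.ι = α.left := IsOpenImmersion.lift_fac _ _ _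
  have hβ' : β' ≫ W.ι = β.left := IsOpenImmersion.lift_fac _ _ _
  let s := lift (toUnit T ≫ p₀) (𝟙 T)
  have hs' : s.left ≫ α' = s.left ≫ β' := by
    rw [← cancel_mono W.ι, Category.assoc, Category.assoc, hα', hβ', ← Over.comp_left, h, Over.comp_left]
  have hiso := isIso_section_appTop P T p₀
  have h6 : α' = β' := by
    apply ext_of_isAffine
    have := congr(($hs').appTop)
    rw [Scheme.Hom.comp_appTop, Scheme.Hom.comp_appTop] at this
    exact (cancel_mono _).mp this
  ext1
  rw [← hα', ← hβ', h6]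

/-- The rigidity lemma. -/
theorem rigid (P Y A : Over (Spec (CommRingCat.of k))) [IsProper P.hom] [GeometricallyIntegral P.hom]
    [IsIntegral (P ⊗ Y).left] [IsSeparated A.hom] (ψ : P ⊗ Y ⟶ A)
    (p₀ : 𝟙_ (Over (Spec (CommRingCat.of k))) ⟶ P) (y₀ : 𝟙_ (Over (Spec (CommRingCat.of k))) ⟶ Y)
    (a₀ : 𝟙_ (Over (Spec (CommRingCat.of k))) ⟶ A)
    (h : lift (𝟙 P) (toUnit P ≫ y₀) ≫ ψ = toUnit P ≫ a₀) :
    ψ = lift (toUnit _ ≫ p₀) (snd P Y) ≫ ψ := by
  let pt : (Spec (CommRingCat.of k)) := IsLocalRing.closedPoint k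
  have hsub : Subsingleton (Spec (CommRingCat.of k)) := inferInstanceAs (Subsingleton (PrimeSpectrum k))
  -- an affine neighbourhood of the value
  obtain ⟨_, ⟨W', hW, rfl⟩, haW, -⟩ := A.left.isBasis_affineOpens.exists_subset_of_mem_open
    (Set.mem_univ (a₀.left pt)) isOpen_univ
  let W : A.left.Opens := W'
  have hcl : IsClosedMap (snd P Y).left := by
    have : IsProper (snd P Y).left := by dsimp; infer_instance
    exact (snd P Y).left.isClosedMap
  let Z : Set Y.left := (snd P Y).left '' (ψ.left ⁻¹' (W : Set A.left)ᶜ)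
  have hZ : IsClosed Z := hcl _ (W.isOpen.isClosed_compl.preimage ψ.left.continuous)
  -- points over `y₀`
  have hfib : ∀ z : (P ⊗ Y).left, (snd P Y).left z = y₀.left pt → ψ.left z = a₀.left pt := by
    intro z hz
    have hpb : IsPullback (lift (𝟙 P) (toUnit P ≫ y₀)).left P.hom (snd P Y).left y₀.left := by
      have h1 : IsPullback (lift (𝟙 P) (toUnit P ≫ y₀)) (toUnit P) (snd P Y) y₀ := by
        refine ⟨⟨by simp⟩, ⟨PullbackCone.IsLimit.mk _ (fun s => s.fst ≫ fst P Y) ?_ ?_ ?_⟩⟩
        · intro s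
          have h2 := s.condition
          apply CartesianMonoidalCategory.hom_ext
          · simp
          · rw [Category.assoc, lift_snd, h2, ← Category.assoc]
            congr 1
            exact toUnit_unique _ _
        · intro s; exact toUnit_unique _ _
        · intro s m h1 h2
          simp [← h1]
      exact h1.map (Over.forget _)
    have hr : z ∈ Set.range (lift (𝟙 P) (toUnit P ≫ y₀)).left := by
      obtain ⟨w, hw, -⟩ := Scheme.exists_preimage_of_isPullback hpb z pt hz
      exact ⟨w, hw⟩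
    obtain ⟨w, rfl⟩ := hr
    rw [← Scheme.Hom.comp_apply, ← Over.comp_left, h, Over.comp_left, Scheme.Hom.comp_apply]
    congr 1
    exact hsub.elim _ _
  have hy0 : y₀.left pt ∉ Z := by
    rintro ⟨z, hz, hz'⟩
    exact hz (by rw [hfib z hz']; exact haW)
  obtain ⟨_, ⟨T', hT, rfl⟩, hyT, hTZ⟩ := Y.left.isBasis_affineOpens.exists_subset_of_mem_open
    (show y₀.left pt ∈ Zᶜ from hy0) hZ.isOpen_compl
  let T₀ : Y.left.Opens := T'
  let T : Over (Spec (CommRingCat.of k)) := Over.mk (T₀.ι ≫ Y.hom)
  let i : T ⟶ Y := Over.homMk T₀.ι rfl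
  have hTaff : IsAffine T.left := hT
  have hi : IsOpenImmersion i.left := inferInstanceAs (IsOpenImmersion T₀.ι)
  have hmem : ∀ z : (P ⊗ Y).left, (snd P Y).left z ∈ T₀ → ψ.left z ∈ W := by
    intro z hz
    by_contra hcon
    exact hTZ hz ⟨z, hcon, rfl⟩
  have hsT : (P ◁ i) ≫ snd P Y = snd P T ≫ i := by simp
  have hsnd : ∀ z : (P ⊗ T).left, (snd P Y).left ((P ◁ i).left z) ∈ T₀ := by
    intro z
    rw [← Scheme.Hom.comp_apply, ← Over.comp_left, hsT, Over.comp_left, Scheme.Hom.comp_apply]
    have : i.left ((snd P T).left z) ∈ Set.range T₀.ι := ⟨_, rfl⟩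
    simpa using this
  let r : P ⊗ Y ⟶ P ⊗ Y := lift (toUnit _ ≫ p₀) (snd P Y)
  have hrs : r ≫ snd P Y = snd P Y := lift_snd _ _
  have key : (P ◁ i) ≫ ψ = (P ◁ i) ≫ r ≫ ψ := by
    refine eq_of_section P T A p₀ _ _ W hW ?_ ?_ ?_
    · intro z
      rw [Over.comp_left, Scheme.Hom.comp_apply]
      exact hmem _ (hsnd z)
    · intro z
      rw [Over.comp_left, Over.comp_left, Scheme.Hom.comp_apply, Scheme.Hom.comp_apply]
      refine hmem _ ?_
      rw [← Scheme.Hom.comp_apply, ← Over.comp_left, hrs]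
      exact hsnd z
    · rw [← Category.assoc, ← Category.assoc, ← Category.assoc]
      congr 1
      apply CartesianMonoidalCategory.hom_ext
      · simp [r]
      · simp [r]
  ext1
  have hdom : IsDominant (P ◁ i).left := by
    have hoi : IsOpenImmersion (P ◁ i).left := by
      rw [Over.whiskerLeft_left]
      infer_instance
    have hirr : IrreducibleSpace (P ⊗ Y).left := inferInstance
    refine ⟨?_⟩
    have hP : Nonempty P.left := ⟨p₀.left pt⟩
    have hne : (Set.range (P ◁ i).left).Nonempty := by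
      have hTne : Nonempty T.left := ⟨⟨y₀.left pt, hyT⟩⟩
      let y : T.left := hTne.some
      obtain ⟨w, -⟩ := Scheme.Pullback.exists_preimage_pullback (f := P.hom) (g := T.hom) (p₀.left pt) y
        (hsub.elim _ _)
      exact ⟨_, ⟨w, rfl⟩⟩
    exact (P ◁ i).left.isOpenEmbedding.isOpen_range.dense hne
  refine ext_of_isDominant_of_isSeparated (A.hom) ?_ (P ◁ i).left ?_
  · rw [Over.w, Over.w]
  · rw [← Over.comp_left, ← Over.comp_left, key]

end Groth.Agent.Sga3.H780.RigidProper
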